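import Mathlib
import Cfsg.Prelude.Def_Transfer
import Cfsg.Agent.PGroups.Basic

/-! A group of order 512 that splits over an elementary abelian group of order 64. -/

set_option autoImplicit false
set_option linter.style.haveILetI false

namespace Cfsg.Lib.Classical.MTwentyFour

open Subgroup

/-- The common fixed points. -/
def fixSet (phi : Fin 8 → Fin 64 → Fin 64) (B : Finset (Fin 8)) : Finset (Fin 64) :=
  Finset.univ.filter fun b => ∀ h ∈ B, phi h b = b

/-- The addition of the abelian part. -/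
def bxor (a b : Fin 64) : Fin 64 := ⟨(a.val ^^^ b.val) % 64, Nat.mod_lt _ (by norm_num)⟩

/-- The finite facts about the action. -/
structure Facts (t : Fin 8 → Fin 8 → Fin 8) (phi : Fin 8 → Fin 64 → Fin 64) : Prop where
  t0 : ∀ k, t 0 k = k ∧ t k 0 = k
  tinv : ∀ h, ∃ k, t h k = 0 ∧ t k h = 0
  p0 : ∀ b, phi 0 b = b ∧ bxor 0 b = b ∧ bxor b 0 = b ∧ bxor b b = 0
  pz : ∀ h, phi h 0 = 0
  xcomm : ∀ a b, bxor a b = bxor b a
  xcancel : ∀ a b c, bxor a b = bxor a c → b = c
  single : ∀ h, 32 ≤ (fixSet phi {h}).card → h = 0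
  small : ∀ B : Finset (Fin 8), 4 ≤ B.card → (fixSet phi B).card ≤ 8
  abel : ∀ B : Finset (Fin 8), (∀ h ∈ B, ∀ k ∈ B, t h k ∈ B ∧ t h k = t k h) →
    (∀ h ∈ B, h = 0) ∨ (fixSet phi B).card * B.card < 64

variable {S : Type*} [Group S] [Finite S] {t : Fin 8 → Fin 8 → Fin 8} {phi : Fin 8 → Fin 64 → Fin 64}

/-- The law of the model. -/
def law (t : Fin 8 → Fin 8 → Fin 8) (phi : Fin 8 → Fin 64 → Fin 64) (x y : Fin 64 × Fin 8) : Fin 64 × Fin 8 :=
  (bxor x.1 (phi x.2 y.1), t x.2 y.2)

theorem conclusions (F : Facts t phi) (e : Fin 64 × Fin 8 ≃ S) (he : ∀ x y, e x * e y = e (law t phi x y)) :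
    (∀ M : Subgroup S, IsCoatom M → Nat.card ↥(center ↥M) ≤ 8) ∧
      (∃ A : Subgroup S, Cfsg.IsElementaryAbelian 2 A ∧ Nat.card ↥A = 64) ∧
      ∀ A B : Subgroup S, IsMulCommutative ↥A → Nat.card ↥A = 64 → IsMulCommutative ↥B → Nat.card ↥B = 64 →
        A = B := by
  classical
  have hone : e (0, 0) = 1 := by
    have h : e (0, 0) * e (0, 0) = e (0, 0) := by
      rw [he, law, (F.p0 0).1, (F.p0 0).2.1, (F.t0 0).1]
    exact mul_eq_left.1 h
  let A₀ : Subgroup S :=
    { carrier := {s | (e.symm s).2 = 0}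
      one_mem' := by show (e.symm 1).2 = 0; rw [← hone, e.symm_apply_apply]
      mul_mem' := fun {a b} ha hb => by
        obtain ⟨⟨a, h⟩, rfl⟩ := e.surjective a
        obtain ⟨⟨b, k⟩, rfl⟩ := e.surjective b
        simp only [Set.mem_setOf_eq, e.symm_apply_apply] at ha hb ⊢
        subst ha hb
        rw [he, e.symm_apply_apply, law]
        exact (F.t0 0).1
      inv_mem' := fun {a} ha => by
        obtain ⟨⟨a, h⟩, rfl⟩ := e.surjective a
        simp only [Set.mem_setOf_eq, e.symm_apply_apply] at ha ⊢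
        subst ha
        have hh : e (a, 0) * e (a, 0) = 1 := by
          rw [he, law, (F.p0 a).1, (F.p0 a).2.2.2, (F.t0 0).1, hone]
        rw [inv_eq_of_mul_eq_one_left hh, e.symm_apply_apply] }
  have hA₀mem : ∀ {a : Fin 64} {h : Fin 8}, e (a, h) ∈ A₀ ↔ h = 0 := fun {a h} => by
    show (e.symm (e (a, h))).2 = 0 ↔ _
    rw [e.symm_apply_apply]
  have hA₀ : Nat.card A₀ = 64 := by
    let f : Fin 64 → A₀ := fun a => ⟨e (a, 0), hA₀mem.2 rfl⟩
    have hf : Function.Bijective f := ⟨fun a b h => congrArg Prod.fst (e.injective (congrArg Subtype.val h)),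
      fun s => by
        obtain ⟨s, hs⟩ := s
        obtain ⟨⟨a, h⟩, rfl⟩ := e.surjective s
        obtain rfl : h = 0 := hA₀mem.1 hs
        exact ⟨a, rfl⟩⟩
    rw [← Nat.card_eq_of_bijective f hf, Nat.card_fin]
  -- the two projections of a subgroup
  let im : Subgroup S → Finset (Fin 8) := fun M => Finset.univ.filter fun h => ∃ a, e (a, h) ∈ M
  let ker : Subgroup S → Finset (Fin 64) := fun M => Finset.univ.filter fun a => e (a, 0) ∈ M
  have bound : ∀ M : Subgroup S, Nat.card M ≤ (ker M).card * (im M).card := by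
    intro M
    have hsec : ∀ h : im M, ∃ a, e (a, h.1) ∈ M := fun h => (Finset.mem_filter.1 h.2).2
    choose sec hsec using hsec
    have himm : ∀ m : M, (e.symm (m : S)).2 ∈ im M := fun m =>
      Finset.mem_filter.2 ⟨Finset.mem_univ _, (e.symm (m : S)).1, by rw [Prod.mk.eta, e.apply_symm_apply]; exact m.2⟩
    have hker : ∀ m : M, (e.symm ((e (sec ⟨_, himm m⟩, (e.symm (m : S)).2))⁻¹ * m)).1 ∈ ker M ∧
        (e.symm ((e (sec ⟨_, himm m⟩, (e.symm (m : S)).2))⁻¹ * m)).2 = 0 := by
      intro m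
      obtain ⟨⟨b, k⟩, hbk⟩ := e.surjective ((e (sec ⟨_, himm m⟩, (e.symm (m : S)).2))⁻¹ * m)
      have h1 := congrArg (fun s => (e.symm (e (sec ⟨_, himm m⟩, (e.symm (m : S)).2) * s)).2) hbk
      simp only [mul_inv_cancel_left, he, e.symm_apply_apply, law] at h1
      obtain ⟨h', e1, e2⟩ := F.tinv (e.symm (m : S)).2
      have hk : k = 0 := by
        by_contra hne
        have hassoc : e (0, h') * (e (0, (e.symm (m : S)).2) * e (0, k)) =
            e (0, h') * e (0, (e.symm (m : S)).2) * e (0, k) := (mul_assoc _ _ _).symm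
        simp only [he, law, h1] at hassoc
        have h2 := congrArg Prod.snd (e.injective hassoc)
        simp only at h2
        rw [e2, (F.t0 k).1] at h2
        exact hne h2.symm
      rw [← hbk, e.symm_apply_apply]
      refine ⟨Finset.mem_filter.2 ⟨Finset.mem_univ _, ?_⟩, hk⟩
      rw [← hk, hbk]
      exact M.mul_mem (M.inv_mem (hsec _)) m.2
    let f : M → ↥(ker M) × ↥(im M) := fun m => (⟨_, (hker m).1⟩, ⟨_, himm m⟩)
    have hf : Function.Injective f := fun m m' h => by
      have h1 : (e.symm ((e (sec ⟨_, himm m⟩, (e.symm (m : S)).2))⁻¹ * m)).1 =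
          (e.symm ((e (sec ⟨_, himm m'⟩, (e.symm (m' : S)).2))⁻¹ * m')).1 := congrArg (fun p => (p.1 : Fin 64)) h
      have h2 : (e.symm (m : S)).2 = (e.symm (m' : S)).2 := congrArg (fun p => (p.2 : Fin 8)) h
      have e1 : (⟨(e.symm (m : S)).2, himm m⟩ : ↥(im M)) = ⟨(e.symm (m' : S)).2, himm m'⟩ := Subtype.ext h2
      have h3 := e.symm.injective (Prod.ext h1 ((hker m).2.trans (hker m').2.symm))
      rw [e1, h2] at h3
      exact Subtype.ext (mul_left_cancel h3)
    refine (Nat.card_le_card_of_injective f hf).trans (le_of_eq ?_)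
    rw [Nat.card_prod, Nat.card_eq_fintype_card, Fintype.card_coe, Nat.card_eq_fintype_card, Fintype.card_coe]
  have hker_le : ∀ M : Subgroup S, (∀ x ∈ M, ∀ y ∈ M, x * y = y * x) → ker M ⊆ fixSet phi (im M) := by
    intro M hM b hb
    refine Finset.mem_filter.2 ⟨Finset.mem_univ _, fun h hh => ?_⟩
    obtain ⟨a, ha⟩ := (Finset.mem_filter.1 hh).2
    have h1 := congrArg Prod.fst (e.injective
      ((he _ _).symm.trans ((hM _ ha _ (Finset.mem_filter.1 hb).2).trans (he _ _))))
    simp only [law, (F.p0 a).1] at h1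
    rw [F.xcomm b a] at h1
    exact F.xcancel _ _ _ h1
  have eq₀ : ∀ A : Subgroup S, IsMulCommutative ↥A → Nat.card ↥A = 64 → A = A₀ := by
    intro A hA h64
    have hc : ∀ x ∈ A, ∀ y ∈ A, x * y = y * x := fun x hx y hy =>
      congrArg Subtype.val (hA.is_comm.comm (⟨x, hx⟩ : A) ⟨y, hy⟩)
    rcases F.abel (im A) (fun h hh k hk => by
      obtain ⟨a, ha⟩ := (Finset.mem_filter.1 hh).2
      obtain ⟨b, hb⟩ := (Finset.mem_filter.1 hk).2
      refine ⟨Finset.mem_filter.2 ⟨Finset.mem_univ _, bxor a (phi h b), ?_⟩, ?_⟩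
      · have := A.mul_mem ha hb
        rwa [he] at this
      · exact congrArg Prod.snd (e.injective ((he _ _).symm.trans ((hc _ ha _ hb).trans (he _ _))))) with h | h
    · refine Subgroup.eq_of_le_of_card_ge (fun s hs => ?_) (by rw [hA₀, h64])
      obtain ⟨⟨a, k⟩, rfl⟩ := e.surjective s
      exact hA₀mem.2 (h k (Finset.mem_filter.2 ⟨Finset.mem_univ _, a, hs⟩))
    · have h1 := (bound A).trans (Nat.mul_le_mul_right _ (Finset.card_le_card (hker_le A hc)))
      omega
  refine ⟨fun M hM => ?_, ⟨A₀, ⟨⟨⟨fun x y => Subtype.ext ?_⟩⟩, fun x hx => ?_⟩, hA₀⟩,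
    fun A B hA hA' hB hB' => (eq₀ A hA hA').trans (eq₀ B hB hB').symm⟩
  · have h512 : Nat.card S = 2 ^ 9 := by rw [← Nat.card_congr e, Nat.card_prod, Nat.card_fin, Nat.card_fin]; rfl
    haveI : Fact (Nat.Prime 2) := ⟨Nat.prime_two⟩
    have h256 : Nat.card M = 256 := by
      have h := M.card_mul_index
      rw [(Cfsg.Lib.PGroups.coatom_normal_index (IsPGroup.of_card h512) hM).2, h512] at h
      omega
    have hb := bound M
    rw [h256] at hb
    have hk64 : (ker M).card ≤ 64 := (Finset.card_le_univ _).trans (by simp)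
    have hi8 : (im M).card ≤ 8 := (Finset.card_le_univ _).trans (by simp)
    have hk32 : 32 ≤ (ker M).card := by
      have := Nat.mul_le_mul_left (ker M).card hi8
      omega
    have hi4 : 4 ≤ (im M).card := by
      have := Nat.mul_le_mul_right (im M).card hk64
      omega
    have hz : ∀ s : center ↥M, ∃ a ∈ fixSet phi (im M), e (a, 0) = ((s : M) : S) := by
      rintro ⟨⟨s, hs⟩, hsc⟩
      obtain ⟨⟨a, k⟩, rfl⟩ := e.surjective s
      have hcm : ∀ y ∈ M, y * e (a, k) = e (a, k) * y := fun y hy =>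
        congrArg Subtype.val (mem_center_iff.1 hsc ⟨y, hy⟩)
      have hk : k = 0 := by
        refine F.single k (hk32.trans (Finset.card_le_card fun b hb => ?_))
        refine Finset.mem_filter.2 ⟨Finset.mem_univ _, fun h hh => ?_⟩
        rw [Finset.mem_singleton.1 hh]
        have h1 := congrArg Prod.fst (e.injective
          ((he _ _).symm.trans ((hcm _ (Finset.mem_filter.1 hb).2).symm.trans (he _ _))))
        simp only [law, (F.p0 a).1] at h1
        rw [F.xcomm b a] at h1
        exact F.xcancel _ _ _ h1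
      subst hk
      refine ⟨a, Finset.mem_filter.2 ⟨Finset.mem_univ _, fun h hh => ?_⟩, rfl⟩
      obtain ⟨c, hc⟩ := (Finset.mem_filter.1 hh).2
      have h1 := congrArg Prod.fst (e.injective ((he _ _).symm.trans ((hcm _ hc).trans (he _ _))))
      simp only [law, (F.p0 c).1] at h1
      rw [F.xcomm a c] at h1
      exact F.xcancel _ _ _ h1
    choose f hf hfe using hz
    refine (Nat.card_le_card_of_injective (fun s => (⟨f s, hf s⟩ : ↥(fixSet phi (im M)))) fun s s' h => ?_).trans ?_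
    · refine Subtype.ext (Subtype.ext ?_)
      rw [← hfe s, ← hfe s', show f s = f s' from congrArg Subtype.val h]
    · rw [Nat.card_eq_fintype_card, Fintype.card_coe]
      exact F.small _ hi4
  · obtain ⟨x, hx⟩ := x
    obtain ⟨y, hy⟩ := y
    obtain ⟨⟨a, h⟩, rfl⟩ := e.surjective x
    obtain ⟨⟨b, k⟩, rfl⟩ := e.surjective y
    obtain rfl := hA₀mem.1 hx
    obtain rfl := hA₀mem.1 hy
    show e (a, 0) * e (b, 0) = e (b, 0) * e (a, 0)
    rw [he, he, law, law, (F.p0 a).1, (F.p0 b).1, F.xcomm]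
  · obtain ⟨⟨a, h⟩, rfl⟩ := e.surjective x
    obtain rfl := hA₀mem.1 hx
    rw [pow_two, he, law, (F.p0 a).1, (F.p0 a).2.2.2, (F.t0 0).1, hone]

end Cfsg.Lib.Classical.MTwentyFour
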