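import Cfsg.Agent.Classical.MTwentyFour.Data
import Cfsg.Agent.Classical.MTwentyFour.Model
import Cfsg.Agent.Golay.Elements

/-! A Sylow 2-subgroup of the group of the code modulo its centre. -/

set_option autoImplicit false
set_option maxRecDepth 100000
set_option linter.style.haveILetI false

namespace Cfsg.Lib.Classical.MTwentyFour

open Cfsg Cfsg.Lib.PermCert Cfsg.Lib.Golay

/-- The action. -/
def phi (h : Fin 8) (a : Fin 64) : Fin 64 := ⟨((phiList.getD h.val []).getD a.val 0) % 64, Nat.mod_lt _ (by norm_num)⟩

/-- The table. -/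
def tab (h k : Fin 8) : Fin 8 := ⟨((tList.getD h.val []).getD k.val 0) % 8, Nat.mod_lt _ (by norm_num)⟩

theorem single_ok : ∀ h : Fin 8, 32 ≤ (fixSet phi {h}).card → h = 0 := by decide +kernel

theorem small_ok : ∀ B : Finset (Fin 8), 4 ≤ B.card → (fixSet phi B).card ≤ 8 := by decide +kernel

theorem abel_ok : ∀ B : Finset (Fin 8), (∀ h ∈ B, ∀ k ∈ B, tab h k ∈ B ∧ tab h k = tab k h) →
    (∀ h ∈ B, h = 0) ∨ (fixSet phi B).card * B.card < 64 := by decide +kernel

theorem facts : Facts tab phi where
  t0 := by decide +kernel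
  tinv := by decide +kernel
  p0 := by decide +kernel
  pz := by decide +kernel
  xcomm := by decide +kernel
  xcancel := by decide +kernel
  single := single_ok
  small := small_ok
  abel := abel_ok

/-- The lift of an element. -/
def word (x : Fin 64 × Fin 8) : List PP := [aList.getD x.1.val zc, hList.getD x.2.val zc]

/-- Two words act equally. -/
def sameW (w v : List PP) : Bool := (List.range 24).all fun i => evalWord w i == evalWord v i

theorem sameW_sound {w v : List PP} (hw : ∀ g ∈ w, valid 24 g = true) (hv : ∀ g ∈ v, valid 24 g = true)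
    (h : sameW w v = true) : wperm 24 w = wperm 24 v := by
  ext x
  rw [wperm_apply hw, wperm_apply hv]
  have := List.all_eq_true.mp h x.1 (List.mem_range.mpr x.2)
  simp_all

/-- Equality up to the central involution. -/
def sameMod (w v : List PP) : Bool := sameW w v || sameW w (zc :: v)

/-- The products of lifts of the abelian part. -/
def checkAA : Bool := (List.finRange 64).all fun a => (List.finRange 64).all fun b =>
  sameMod [aList.getD a.val zc, aList.getD b.val zc] [aList.getD (bxor a b).val zc]

/-- The products of lifts of the complement. -/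
def checkHH : Bool := (List.finRange 8).all fun h => (List.finRange 8).all fun k =>
  sameMod [hList.getD h.val zc, hList.getD k.val zc] [hList.getD (tab h k).val zc]

/-- The action of the lifts. -/
def checkHA : Bool := (List.finRange 8).all fun h => (List.finRange 64).all fun a =>
  sameMod [hList.getD h.val zc, aList.getD a.val zc] [aList.getD (phi h a).val zc, hList.getD h.val zc]

/-- All members of the certified group. -/
def checkMem : Bool := (zc :: aList ++ hList).all fun g => valid 24 g && sift 24 cgSyl2.chain [g]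

/-- The central involution commutes with the generators. -/
def checkZ : Bool := (topGens cgSyl2.chain).all fun s => valid 24 s && sameW [zc, s] [s, zc]

/-- Only the identity lift is central. -/
def checkCentre : Bool := (List.finRange 64).all fun a => (List.finRange 8).all fun h =>
  (a == 0 && h == 0) || (topGens cgSyl2.chain).any fun s => !sameW (s :: word (a, h)) (word (a, h) ++ [s])

theorem checkAA_ok : checkAA = true := by decide +kernel
theorem checkHH_ok : checkHH = true := by decide +kernel
theorem checkHA_ok : checkHA = true := by decide +kernel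
theorem checkMem_ok : checkMem = true := by decide +kernel
theorem checkZ_ok : checkZ = true := by decide +kernel
theorem checkCentre_ok : checkCentre = true := by decide +kernel
theorem misc_ok : sameW [zc, zc] [] = true ∧ sameW [zc] [] = false ∧ sameW (word (0, 0)) [] = true ∧
    size cgSyl2.chain = 1024 ∧ aList.length = 64 ∧ hList.length = 8 := by decide +kernel

theorem a_valid (a : Fin 64) : aList.getD a.val zc ∈ zc :: aList ++ hList := by
  refine List.mem_append_left _ (List.mem_cons_of_mem _ ?_)
  rw [List.getD_eq_getElem _ _ (by rw [misc_ok.2.2.2.2.1]; exact a.2)]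
  exact List.getElem_mem _

theorem h_valid (h : Fin 8) : hList.getD h.val zc ∈ zc :: aList ++ hList := by
  refine List.mem_append_right _ ?_
  rw [List.getD_eq_getElem _ _ (by rw [misc_ok.2.2.2.2.2]; exact h.2)]
  exact List.getElem_mem _

/-- The certified Sylow subgroup on indices. -/
abbrev PG : Subgroup (Equiv.Perm (Fin 24)) := grp 24 cgSyl2.chain

theorem mem_spec {g : PP} (h : g ∈ zc :: aList ++ hList) : valid 24 g = true ∧ perm 24 g ∈ PG := by
  have h0 := checkMem_ok
  simp only [checkMem, List.all_eq_true, Bool.and_eq_true] at h0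
  obtain ⟨hv, hs⟩ := h0 g h
  refine ⟨hv, ?_⟩
  have := mem_grp_of_sift (CG.ok_spec cgSyl2_ok).1 (w := [g]) (by simpa using hv) hs
  simpa [wperm] using this

/-- The element of a lift. -/
def el (g : PP) (h : g ∈ zc :: aList ++ hList) : ↥PG := ⟨perm 24 g, (mem_spec h).2⟩

theorem zc_mem : zc ∈ zc :: aList ++ hList := List.mem_append_left _ List.mem_cons_self

theorem word_valid (x : Fin 64 × Fin 8) : ∀ g ∈ word x, valid 24 g = true := by
  intro g hg
  simp only [word, List.mem_cons, List.mem_nil_iff, or_false] at hg
  rcases hg with rfl | rfl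
  · exact (mem_spec (a_valid _)).1
  · exact (mem_spec (h_valid _)).1

/-- The lift as an element. -/
def lift (x : Fin 64 × Fin 8) : ↥PG := el _ (a_valid x.1) * el _ (h_valid x.2)

theorem coe_lift (x : Fin 64 × Fin 8) : (lift x : Equiv.Perm (Fin 24)) = wperm 24 (word x) := by
  simp [lift, el, word, wperm]

/-- The central involution. -/
def zel : ↥PG := el zc zc_mem

theorem coe_zel : (zel : Equiv.Perm (Fin 24)) = wperm 24 [zc] := by simp [zel, el, wperm]

theorem zel_central : zel ∈ Subgroup.center ↥PG := by
  rw [Subgroup.mem_center_iff]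
  rintro ⟨x, hx⟩
  refine Subtype.ext ?_
  show x * perm 24 zc = perm 24 zc * x
  have h : grp 24 cgSyl2.chain ≤ Subgroup.centralizer ({perm 24 zc} : Set (Equiv.Perm (Fin 24))) := by
    rw [grp, Subgroup.closure_le]
    rintro _ ⟨s, hs, rfl⟩
    have h0 := checkZ_ok
    simp only [checkZ, List.all_eq_true, Bool.and_eq_true] at h0
    obtain ⟨hv, he⟩ := h0 s hs
    rw [SetLike.mem_coe, Subgroup.mem_centralizer_singleton_iff]
    have := sameW_sound (by simp [(mem_spec zc_mem).1, hv]) (by simp [(mem_spec zc_mem).1, hv]) he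
    simpa [wperm] using this.symm
  exact Subgroup.mem_centralizer_singleton_iff.1 (h hx)

theorem exists_equiv (P : Sylow 2 ↥Cfsg.M24) :
    ∃ e : Fin 64 × Fin 8 ≃ (↥(P : Subgroup ↥Cfsg.M24) ⧸ Subgroup.center ↥(P : Subgroup ↥Cfsg.M24)),
      ∀ x y, e x * e y = e (law tab phi x y) := by
  classical
  haveI : Fact (Nat.Prime 2) := ⟨Nat.prime_two⟩
  -- the certified group is a Sylow subgroup
  have hcard : Nat.card ↥PG = 1024 := by rw [card_grp (CG.ok_spec cgSyl2_ok).1, misc_ok.2.2.2.1]
  have hle : cgSyl2.grp ≤ M24 := grp_cgM24 ▸ grp_le_of_gensIn cgM24_ok cgSyl2_ok (by decide +kernel)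
  let i1 : ↥PG ≃* ↥cgSyl2.grp := permHom.subgroupMap (grp 24 cgSyl2.chain)
  let i2 : ↥PG ≃* ↥(cgSyl2.grp.subgroupOf M24) := i1.trans (Subgroup.subgroupOfEquivOfLe hle).symm
  have hsyl : Nat.card ↥(cgSyl2.grp.subgroupOf M24) = 2 ^ (Nat.card ↥M24).factorization 2 := by
    rw [← Nat.card_congr i2.toEquiv, hcard, card_M24]
    have h1 := (Nat.prime_two).pow_dvd_iff_le_factorization (k := 10) (n := 244823040) (by norm_num)
    have h2 := (Nat.prime_two).pow_dvd_iff_le_factorization (k := 11) (n := 244823040) (by norm_num)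
    have h10 := h1.mp (by norm_num)
    have h11 : ¬ 11 ≤ (244823040 : ℕ).factorization 2 := fun h => absurd (h2.mpr h) (by norm_num)
    rw [show (244823040 : ℕ).factorization 2 = 10 by omega]
    rfl
  let i : ↥PG ≃* ↥(P : Subgroup ↥M24) := i2.trans (Sylow.equiv (Sylow.ofCard _ hsyl) P)
  -- the quotient map
  let q : ↥PG →* ↥(P : Subgroup ↥M24) ⧸ Subgroup.center ↥(P : Subgroup ↥M24) :=
    (QuotientGroup.mk' _).comp i.toMonoidHom
  have hq : Function.Surjective q := (QuotientGroup.mk'_surjective _).comp i.surjective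
  have hqker : ∀ w, q w = 1 ↔ w ∈ Subgroup.center ↥PG := by
    intro w
    show (QuotientGroup.mk (i w) : _ ⧸ Subgroup.center ↥(P : Subgroup ↥M24)) = 1 ↔ _
    rw [QuotientGroup.eq_one_iff, Subgroup.mem_center_iff, Subgroup.mem_center_iff]
    refine ⟨fun h g => i.injective (by rw [map_mul, map_mul]; exact h _), fun h g => ?_⟩
    obtain ⟨g, rfl⟩ := i.surjective g
    rw [← map_mul, ← map_mul, h]
  have hqz : q zel = 1 := (hqker _).2 zel_central
  -- the law
  have hmod : ∀ (x y : ↥PG) (w v : List PP), (∀ g ∈ w, valid 24 g = true) → (∀ g ∈ v, valid 24 g = true) →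
      (x : Equiv.Perm (Fin 24)) = wperm 24 w → (y : Equiv.Perm (Fin 24)) = wperm 24 v → sameMod w v = true →
      q x = q y := by
    intro x y w v hw hv hx hy h
    simp only [sameMod, Bool.or_eq_true] at h
    rcases h with h | h
    · rw [show x = y from Subtype.ext (by rw [hx, hy, sameW_sound hw hv h])]
    · have hzv : ∀ g ∈ zc :: v, valid 24 g = true := by
        simp only [List.forall_mem_cons]; exact ⟨(mem_spec zc_mem).1, hv⟩
      rw [show x = zel * y from Subtype.ext (by
        rw [hx, sameW_sound hw hzv h, Subgroup.coe_mul, coe_zel, hy]; simp [wperm]), map_mul, hqz, one_mul]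
  let qa : Fin 64 → _ := fun a => q (el _ (a_valid a))
  let qh : Fin 8 → _ := fun h => q (el _ (h_valid h))
  have hval : ∀ {l : List PP}, (∀ g ∈ l, g ∈ zc :: aList ++ hList) → ∀ g ∈ l, valid 24 g = true :=
    fun hl g hg => (mem_spec (hl g hg)).1
  have hAA : ∀ a b, qa a * qa b = qa (bxor a b) := by
    intro a b
    have h0 := checkAA_ok
    simp only [checkAA, List.all_eq_true] at h0
    rw [← map_mul]
    refine hmod _ _ [_, _] [_] (hval ?_) (hval ?_) (by simp [el, wperm]) (by simp [el, wperm])
      (h0 a (List.mem_finRange _) b (List.mem_finRange _))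
    · simp only [List.forall_mem_cons, List.not_mem_nil, IsEmpty.forall_iff, implies_true, and_true]
      exact ⟨a_valid a, a_valid b⟩
    · simp only [List.forall_mem_cons, List.not_mem_nil, IsEmpty.forall_iff, implies_true, and_true]
      exact a_valid _
  have hHH : ∀ h k, qh h * qh k = qh (tab h k) := by
    intro h k
    have h0 := checkHH_ok
    simp only [checkHH, List.all_eq_true] at h0
    rw [← map_mul]
    refine hmod _ _ [_, _] [_] (hval ?_) (hval ?_) (by simp [el, wperm]) (by simp [el, wperm])
      (h0 h (List.mem_finRange _) k (List.mem_finRange _))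
    · simp only [List.forall_mem_cons, List.not_mem_nil, IsEmpty.forall_iff, implies_true, and_true]
      exact ⟨h_valid h, h_valid k⟩
    · simp only [List.forall_mem_cons, List.not_mem_nil, IsEmpty.forall_iff, implies_true, and_true]
      exact h_valid _
  have hHA : ∀ h a, qh h * qa a = qa (phi h a) * qh h := by
    intro h a
    have h0 := checkHA_ok
    simp only [checkHA, List.all_eq_true] at h0
    rw [← map_mul, ← map_mul]
    refine hmod _ _ [_, _] [_, _] (hval ?_) (hval ?_) (by simp [el, wperm]) (by simp [el, wperm])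
      (h0 h (List.mem_finRange _) a (List.mem_finRange _))
    · simp only [List.forall_mem_cons, List.not_mem_nil, IsEmpty.forall_iff, implies_true, and_true]
      exact ⟨h_valid h, a_valid a⟩
    · simp only [List.forall_mem_cons, List.not_mem_nil, IsEmpty.forall_iff, implies_true, and_true]
      exact ⟨a_valid _, h_valid h⟩
  let e : Fin 64 × Fin 8 → _ := fun x => q (lift x)
  have he : ∀ x y, e x * e y = e (law tab phi x y) := fun x y => by
    simp only [e, lift, map_mul, law]
    show qa x.1 * qh x.2 * (qa y.1 * qh y.2) = qa _ * qh _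
    rw [← mul_assoc, mul_assoc (qa x.1), hHA, ← mul_assoc (qa x.1), hAA, mul_assoc, hHH]
  -- centre of the certified group
  have hcentre : ∀ x, lift x ∈ Subgroup.center ↥PG → x = (0, 0) := by
    intro x hx
    have h0 := checkCentre_ok
    simp only [checkCentre, List.all_eq_true, Bool.or_eq_true, Bool.and_eq_true, beq_iff_eq, List.any_eq_true,
      Bool.not_eq_true'] at h0
    rcases h0 x.1 (List.mem_finRange _) x.2 (List.mem_finRange _) with h | ⟨s, hs, h⟩
    · exact Prod.ext h.1 h.2
    exfalso
    have hsv : valid 24 s = true := by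
      have h1 := checkZ_ok
      simp only [checkZ, List.all_eq_true, Bool.and_eq_true] at h1
      exact (h1 s hs).1
    have hc := congrArg Subtype.val ((Subgroup.mem_center_iff.1 hx) ⟨perm 24 s, Subgroup.subset_closure ⟨s, hs, rfl⟩⟩)
    simp only [Subgroup.coe_mul, coe_lift] at hc
    rw [Bool.eq_false_iff] at h
    refine h (List.all_eq_true.mpr fun n hn => ?_)
    have hn' : n < 24 := List.mem_range.1 hn
    have h1 : ∀ g ∈ s :: word x, valid 24 g = true := List.forall_mem_cons.2 ⟨hsv, word_valid x⟩
    have h2 : ∀ g ∈ word x ++ [s], valid 24 g = true := by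
      intro g hg
      rcases List.mem_append.1 hg with hg | hg
      · exact word_valid x g hg
      · rw [List.mem_singleton.1 hg]; exact hsv
    have hw : wperm 24 (s :: word x) = wperm 24 (word x ++ [s]) := by
      simp only [wperm, List.map_cons, List.prod_cons, List.map_append, List.prod_append, List.map_nil,
        List.prod_nil, mul_one] at hc ⊢
      exact hc
    have h3 := congrArg (fun σ : Equiv.Perm (Fin 24) => ((σ ⟨n, hn'⟩ : Fin 24) : ℕ)) hw
    simp only [wperm_apply h1, wperm_apply h2] at h3
    simpa using h3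
  have hinj : Function.Injective e := by
    intro x y hxy
    -- compose with an inverse in the model
    obtain ⟨k, hk1, hk2⟩ := facts.tinv y.2
    have hy : ∀ y' : Fin 64 × Fin 8, e y * e y' = e (0, 0) → e x * e y' = e (0, 0) := fun y' h => by rw [hxy, h]
    obtain ⟨b, hb⟩ : ∃ b, bxor y.1 (phi y.2 b) = 0 := by
      have hsurj : Function.Surjective (phi y.2) := by
        have : ∀ h, Function.Surjective (phi h) := by decide +kernel
        exact this y.2
      obtain ⟨b, hb⟩ := hsurj y.1
      exact ⟨b, by rw [hb]; exact (facts.p0 y.1).2.2.2⟩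
    have h1 := hy (b, k) (by rw [he, law, hb, hk1])
    rw [he] at h1
    have hz : e (0, 0) = 1 := by
      have h : e (0, 0) * e (0, 0) = e (0, 0) := by
        rw [he, law, (facts.p0 0).1, (facts.p0 0).2.1, (facts.t0 0).1]
      exact mul_eq_left.1 h
    rw [hz] at h1
    have h2 := hcentre _ ((hqker _).1 h1)
    simp only [law, Prod.mk.injEq] at h2
    have hx2 : x.2 = y.2 := by
      have : ∀ u v k : Fin 8, tab u k = 0 → tab v k = 0 → u = v := by decide +kernel
      exact this _ _ k h2.2 hk1
    refine Prod.ext ?_ hx2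
    rw [hx2] at h2
    rw [facts.xcomm] at h2 hb
    exact facts.xcancel _ _ _ (h2.1.trans hb.symm)
  have hsurj : Nat.card (↥(P : Subgroup ↥M24) ⧸ Subgroup.center ↥(P : Subgroup ↥M24)) ≤ 512 := by
    have hP : Nat.card ↥(P : Subgroup ↥M24) = 1024 := by rw [← Nat.card_congr i.toEquiv, hcard]
    have h := Subgroup.card_eq_card_quotient_mul_card_subgroup (Subgroup.center ↥(P : Subgroup ↥M24))
    rw [hP] at h
    have h2 : 2 ≤ Nat.card ↥(Subgroup.center ↥(P : Subgroup ↥M24)) := by
      refine Finite.one_lt_card_iff_nontrivial.2 ⟨⟨⟨i zel, ?_⟩, 1, fun h => ?_⟩⟩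
      · rw [← QuotientGroup.eq_one_iff]; exact hqz
      · have h1 : i zel = 1 := congrArg Subtype.val h
        have h2 : zel = 1 := i.injective (h1.trans (map_one i).symm)
        have h3 := congrArg Subtype.val h2
        rw [coe_zel] at h3
        have h4 := misc_ok.2.1
        rw [Bool.eq_false_iff] at h4
        refine h4 (List.all_eq_true.mpr fun n hn => ?_)
        have hn' : n < 24 := List.mem_range.1 hn
        have hv : ∀ g ∈ [zc], valid 24 g = true := by simp [(mem_spec zc_mem).1]
        have h5 := congrArg (fun σ : Equiv.Perm (Fin 24) => ((σ ⟨n, hn'⟩ : Fin 24) : ℕ)) h3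
        simp only [wperm_apply hv, Subgroup.coe_one, Equiv.Perm.one_apply] at h5
        simpa [evalWord] using h5
    have h6 := Nat.mul_le_mul_left (Nat.card (↥(P : Subgroup ↥M24) ⧸ Subgroup.center ↥(P : Subgroup ↥M24))) h2
    omega
  have hbij : Function.Bijective e := by
    refine (Nat.bijective_iff_injective_and_card e).2 ⟨hinj, le_antisymm (Nat.card_le_card_of_injective e hinj) ?_⟩
    rw [Nat.card_prod, Nat.card_fin, Nat.card_fin]
    exact hsurj
  exact ⟨Equiv.ofBijective e hbij, he⟩

theorem main (P : Sylow 2 ↥Cfsg.M24) :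
    (∀ M : Subgroup (↥(P : Subgroup ↥Cfsg.M24) ⧸ Subgroup.center ↥(P : Subgroup ↥Cfsg.M24)), IsCoatom M →
        Nat.card ↥(Subgroup.center ↥M) ≤ 8) ∧
      (∃ A : Subgroup (↥(P : Subgroup ↥Cfsg.M24) ⧸ Subgroup.center ↥(P : Subgroup ↥Cfsg.M24)),
        Cfsg.IsElementaryAbelian 2 A ∧ Nat.card ↥A = 64) ∧
      ∀ A B : Subgroup (↥(P : Subgroup ↥Cfsg.M24) ⧸ Subgroup.center ↥(P : Subgroup ↥Cfsg.M24)),
        IsMulCommutative ↥A → Nat.card ↥A = 64 → IsMulCommutative ↥B → Nat.card ↥B = 64 → A = B := by
  obtain ⟨e, he⟩ := exists_equiv P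
  exact conclusions facts e he

end Cfsg.Lib.Classical.MTwentyFour
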